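import Mathlib

/-! # Injective ring maps which are surjective on spectra give epimorphisms of schemes -/

set_option autoImplicit false
set_option backward.isDefEq.respectTransparency false
universe u

open CategoryTheory AlgebraicGeometry

namespace Groth.Agent.InjEpi

theorem injective_away {A C : Type u} [CommRing A] [CommRing C] (a : A →+* C) (ha : Function.Injective a) (r : A) :
    Function.Injective (IsLocalization.Away.map (Localization.Away r) (Localization.Away (a r)) a r) := by
  rw [injective_iff_map_eq_zero]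
  intro x hx
  obtain ⟨x, ⟨_, n, rfl⟩, rfl⟩ := IsLocalization.exists_mk'_eq (Submonoid.powers r) x
  rw [IsLocalization.Away.map, IsLocalization.map_mk', IsLocalization.mk'_eq_zero_iff] at hx
  obtain ⟨⟨_, m, rfl⟩, hm⟩ := hx
  rw [IsLocalization.mk'_eq_zero_iff]
  refine ⟨⟨r ^ m, m, rfl⟩, ha ?_⟩
  simpa [map_mul, map_pow] using hm

/-- An injective ring map which is surjective on prime spectra gives an epimorphism of schemes. -/
theorem eq_of_specMap_comp_eq {A C : Type u} [CommRing A] [CommRing C] (a : A →+* C) (ha : Function.Injective a)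
    (hs : Function.Surjective (PrimeSpectrum.comap a)) {X : Scheme.{u}}
    {g h : Spec (CommRingCat.of A) ⟶ X}
    (e : Spec.map (CommRingCat.ofHom a) ≫ g = Spec.map (CommRingCat.ofHom a) ≫ h) : g = h := by
  have hpt : ∀ p, g p = h p := fun p ↦ by
    obtain ⟨q, rfl⟩ := hs p
    exact congr($(e) q)
  let S : Set A := {r | ∃ U : X.affineOpens, ∀ p : PrimeSpectrum A, r ∉ p.asIdeal → g p ∈ U.1}
  have hS : Ideal.span S = ⊤ := by
    by_contra hne
    obtain ⟨m, hm, hle⟩ := Ideal.exists_le_maximal _ hne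
    let p : PrimeSpectrum A := ⟨m, hm.isPrime⟩
    obtain ⟨U, hU, hpU, -⟩ := TopologicalSpace.Opens.isBasis_iff_nbhd.mp X.isBasis_affineOpens
      (show g p ∈ (⊤ : X.Opens) from trivial)
    obtain ⟨_, ⟨r, rfl⟩, hpr, hrU⟩ :=
      PrimeSpectrum.isTopologicalBasis_basic_opens.exists_subset_of_mem_open (a := p)
        (u := {q : PrimeSpectrum A | g q ∈ U}) hpU (g ⁻¹ᵁ U).isOpen
    have hrS : r ∈ S := ⟨⟨U, hU⟩, fun q hq ↦ hrU hq⟩
    exact hpr (hle (Ideal.subset_span hrS))
  let 𝒰 := (Scheme.affineOpenCoverOfSpanRangeEqTop (R := CommRingCat.of A) (fun r : S ↦ (r : A))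
    (by rwa [Subtype.range_coe])).openCover
  refine Scheme.Cover.hom_ext 𝒰 _ _ fun i ↦ ?_
  obtain ⟨r, U, hrU⟩ := (i : S)
  change Spec.map (CommRingCat.ofHom (algebraMap A (Localization.Away r))) ≫ g =
    Spec.map (CommRingCat.ofHom (algebraMap A (Localization.Away r))) ≫ h
  set l := Spec.map (CommRingCat.ofHom (algebraMap A (Localization.Away r)))
  have hl : ∀ (k : Spec (CommRingCat.of A) ⟶ X), (∀ p, k p = g p) → Set.range (l ≫ k) ⊆ Set.range U.2.fromSpec := by
    rintro k hk _ ⟨q, rfl⟩
    rw [U.2.range_fromSpec, Scheme.Hom.comp_apply, hk]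
    refine hrU _ ?_
    have : l q ∈ Set.range l := ⟨q, rfl⟩
    rw [show Set.range l = (PrimeSpectrum.basicOpen r : Set (PrimeSpectrum A)) from
      PrimeSpectrum.localization_away_comap_range (Localization.Away r) r] at this
    exact this
  let g' := IsOpenImmersion.lift U.2.fromSpec (l ≫ g) (hl g fun _ ↦ rfl)
  let h' := IsOpenImmersion.lift U.2.fromSpec (l ≫ h) (hl h fun p ↦ (hpt p).symm)
  obtain ⟨φ, hφ⟩ := Spec.map_surjective g'
  obtain ⟨ψ, hψ⟩ := Spec.map_surjective h'
  suffices φ = ψ by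
    rw [← IsOpenImmersion.lift_fac U.2.fromSpec (l ≫ g) (hl g fun _ ↦ rfl),
      ← IsOpenImmersion.lift_fac U.2.fromSpec (l ≫ h) (hl h fun p ↦ (hpt p).symm)]
    show g' ≫ _ = h' ≫ _
    rw [← hφ, ← hψ, this]
  let ar := CommRingCat.ofHom (IsLocalization.Away.map (Localization.Away r) (Localization.Away (a r)) a r)
  have key : Spec.map ar ≫ g' = Spec.map ar ≫ h' := by
    rw [← cancel_mono U.2.fromSpec, Category.assoc, Category.assoc, IsOpenImmersion.lift_fac, IsOpenImmersion.lift_fac]
    have sq : Spec.map ar ≫ l = Spec.map (CommRingCat.ofHom (algebraMap C (Localization.Away (a r)))) ≫ Spec.map (CommRingCat.ofHom a) := by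
      simp only [l, ar, ← Spec.map_comp, ← CommRingCat.ofHom_comp]
      congr 2
      exact IsLocalization.map_comp _
    rw [← Category.assoc, sq, Category.assoc, e, ← Category.assoc, ← sq, Category.assoc]
  rw [← hφ, ← hψ, ← Spec.map_comp, ← Spec.map_comp] at key
  have key' := Spec.map_injective key
  ext x
  exact injective_away a ha r congr($(key').hom x)

theorem eq_of_specMap_comp_eq' {A C : CommRingCat.{u}} (a : A ⟶ C) (ha : Function.Injective a.hom)
    (hs : Function.Surjective (PrimeSpectrum.comap a.hom)) {X : Scheme.{u}}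
    (g h : Spec A ⟶ X) (e : Spec.map a ≫ g = Spec.map a ≫ h) : g = h :=
  eq_of_specMap_comp_eq a.hom ha hs e

end Groth.Agent.InjEpi
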